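import Cfsg.Agent.Lib.KnownB.SuzMult.P3Data
import Cfsg.Agent.Lib.KnownB.Mult.Chunks

/-! Checks of the relations of the certificate at `3`. -/

set_option autoImplicit false
set_option maxRecDepth 100000
set_option maxHeartbeats 0
set_option Elab.async false

namespace CfsgLib.KnownB.SuzMult.P3

open CfsgLib.Spor CfsgLib.Spor.SixSuz CfsgLib.KnownB.Mult

theorem relR0 : (piece cert.rules 24 0).all (cert.ruleF sixCode) = true := by decide +kernel
theorem relR1 : (piece cert.rules 24 1).all (cert.ruleF sixCode) = true := by decide +kernel
theorem relC0 : (piece (List.range cert.conjs.length) 8 0).all (cert.cnjF sixCode) = true := by decide +kernel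
theorem rel : cert.relOK sixCode = true :=
  Cert.relOK_of _ _
    (all_of_pieces (cert.ruleF sixCode) 24 2 cert.rules (fun i hi => match i, hi with
    | 0, _ => relR0
    | 1, _ => relR1
    | n + 2, hi => absurd hi (by omega)) (by decide +kernel))
    (all_of_pieces (cert.cnjF sixCode) 8 1 (List.range cert.conjs.length) (fun i hi => match i, hi with
    | 0, _ => relC0
    | n + 1, hi => absurd hi (by omega)) (by decide +kernel))

end CfsgLib.KnownB.SuzMult.P3
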