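import Cfsg.Agent.Lib.KnownB.SuzMult.P3Data
import Cfsg.Agent.Lib.KnownB.Mult.Chunks

/-! Checks of rows of the certificate at `3`. -/

set_option autoImplicit false
set_option maxRecDepth 100000
set_option maxHeartbeats 0
set_option Elab.async false

namespace CfsgLib.KnownB.SuzMult.P3

open CfsgLib.Spor CfsgLib.Spor.SixSuz CfsgLib.KnownB.Mult

theorem rowsC0 : (piece cert.rows 1 0).all (cert.rowF sixCode 3) = true := by decide +kernel
theorem rowsC1 : (piece cert.rows 1 1).all (cert.rowF sixCode 3) = true := by decide +kernel
theorem rowsC2 : (piece cert.rows 1 2).all (cert.rowF sixCode 3) = true := by decide +kernel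
theorem rowsC3 : (piece cert.rows 1 3).all (cert.rowF sixCode 3) = true := by decide +kernel
theorem rowsC4 : (piece cert.rows 1 4).all (cert.rowF sixCode 3) = true := by decide +kernel
theorem rowsC5 : (piece cert.rows 1 5).all (cert.rowF sixCode 3) = true := by decide +kernel
theorem rowsC6 : (piece cert.rows 1 6).all (cert.rowF sixCode 3) = true := by decide +kernel
theorem rowsC7 : (piece cert.rows 1 7).all (cert.rowF sixCode 3) = true := by decide +kernel
theorem rowsC8 : (piece cert.rows 1 8).all (cert.rowF sixCode 3) = true := by decide +kernel
theorem rowsC9 : (piece cert.rows 1 9).all (cert.rowF sixCode 3) = true := by decide +kernel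
theorem rowsC10 : (piece cert.rows 1 10).all (cert.rowF sixCode 3) = true := by decide +kernel
theorem rowsC11 : (piece cert.rows 1 11).all (cert.rowF sixCode 3) = true := by decide +kernel
theorem rowsC12 : (piece cert.rows 1 12).all (cert.rowF sixCode 3) = true := by decide +kernel
theorem rowsC13 : (piece cert.rows 1 13).all (cert.rowF sixCode 3) = true := by decide +kernel
theorem rowsC14 : (piece cert.rows 1 14).all (cert.rowF sixCode 3) = true := by decide +kernel
theorem rowsC15 : (piece cert.rows 1 15).all (cert.rowF sixCode 3) = true := by decide +kernel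
theorem rowsC16 : (piece cert.rows 1 16).all (cert.rowF sixCode 3) = true := by decide +kernel
theorem rowsC17 : (piece cert.rows 1 17).all (cert.rowF sixCode 3) = true := by decide +kernel
theorem rowsC18 : (piece cert.rows 1 18).all (cert.rowF sixCode 3) = true := by decide +kernel
theorem rowsC19 : (piece cert.rows 1 19).all (cert.rowF sixCode 3) = true := by decide +kernel

end CfsgLib.KnownB.SuzMult.P3
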