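import Cfsg.Agent.Lib.KnownB.SuzMult.P3Data
import Cfsg.Agent.Lib.KnownB.Mult.Chunks

/-! Checks of rows of the certificate at `3`. -/

set_option autoImplicit false
set_option maxRecDepth 100000
set_option maxHeartbeats 0
set_option Elab.async false

namespace CfsgLib.KnownB.SuzMult.P3

open CfsgLib.Spor CfsgLib.Spor.SixSuz CfsgLib.KnownB.Mult

theorem rowsC20 : (piece cert.rows 1 20).all (cert.rowF sixCode 3) = true := by decide +kernel
theorem rowsC21 : (piece cert.rows 1 21).all (cert.rowF sixCode 3) = true := by decide +kernel
theorem rowsC22 : (piece cert.rows 1 22).all (cert.rowF sixCode 3) = true := by decide +kernel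
theorem rowsC23 : (piece cert.rows 1 23).all (cert.rowF sixCode 3) = true := by decide +kernel
theorem rowsC24 : (piece cert.rows 1 24).all (cert.rowF sixCode 3) = true := by decide +kernel
theorem rowsC25 : (piece cert.rows 1 25).all (cert.rowF sixCode 3) = true := by decide +kernel
theorem rowsC26 : (piece cert.rows 1 26).all (cert.rowF sixCode 3) = true := by decide +kernel
theorem rowsC27 : (piece cert.rows 1 27).all (cert.rowF sixCode 3) = true := by decide +kernel
theorem rowsC28 : (piece cert.rows 1 28).all (cert.rowF sixCode 3) = true := by decide +kernel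
theorem rowsC29 : (piece cert.rows 1 29).all (cert.rowF sixCode 3) = true := by decide +kernel
theorem rowsC30 : (piece cert.rows 1 30).all (cert.rowF sixCode 3) = true := by decide +kernel

end CfsgLib.KnownB.SuzMult.P3
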