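import Cfsg.Agent.Lib.KnownB.SuzMult.P3Data
import Cfsg.Agent.Lib.KnownB.Mult.Chunks
import Cfsg.Agent.Lib.KnownB.SuzMult.P3Rel
import Cfsg.Agent.Lib.KnownB.SuzMult.P3Small
import Cfsg.Agent.Lib.KnownB.SuzMult.P3Target
import Cfsg.Agent.Lib.KnownB.SuzMult.P3Rows0
import Cfsg.Agent.Lib.KnownB.SuzMult.P3Rows1

/-! The condition at `3`. -/

set_option autoImplicit false
set_option maxRecDepth 100000
set_option maxHeartbeats 0
set_option Elab.async false

namespace CfsgLib.KnownB.SuzMult.P3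

open CfsgLib.Spor CfsgLib.Spor.SixSuz CfsgLib.KnownB.Mult

theorem rows : cert.rowsOK sixCode 3 = true :=
  Cert.rowsOK_of _ _ _
    (all_of_pieces (cert.rowF sixCode 3) 1 31 cert.rows (fun i hi => match i, hi with
    | 0, _ => rowsC0
    | 1, _ => rowsC1
    | 2, _ => rowsC2
    | 3, _ => rowsC3
    | 4, _ => rowsC4
    | 5, _ => rowsC5
    | 6, _ => rowsC6
    | 7, _ => rowsC7
    | 8, _ => rowsC8
    | 9, _ => rowsC9
    | 10, _ => rowsC10
    | 11, _ => rowsC11
    | 12, _ => rowsC12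
    | 13, _ => rowsC13
    | 14, _ => rowsC14
    | 15, _ => rowsC15
    | 16, _ => rowsC16
    | 17, _ => rowsC17
    | 18, _ => rowsC18
    | 19, _ => rowsC19
    | 20, _ => rowsC20
    | 21, _ => rowsC21
    | 22, _ => rowsC22
    | 23, _ => rowsC23
    | 24, _ => rowsC24
    | 25, _ => rowsC25
    | 26, _ => rowsC26
    | 27, _ => rowsC27
    | 28, _ => rowsC28
    | 29, _ => rowsC29
    | 30, _ => rowsC30
    | n + 31, hi => absurd hi (by omega)) (by decide +kernel))

theorem primeCond_cert [Finite sixSuz] (hN : Nat.card sixSuz = 3 ^ 8 * 410009600) :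
    haveI : Fact (Nat.Prime 3) := ⟨by norm_num⟩; PrimeCond sixSuz 3 :=
  haveI : Fact (Nat.Prime 3) := ⟨by norm_num⟩
  primeCond_of_levels cert ⟨gen, rel, pcs, rows, target⟩ levels levels_ok (by decide) hN (by norm_num)

end CfsgLib.KnownB.SuzMult.P3
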