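import Cfsg.Agent.Lib.KnownB.SuzMult.P5Data
import Cfsg.Agent.Lib.KnownB.Mult.Chunks

/-! Checks of rows of the certificate at `5`. -/

set_option autoImplicit false
set_option maxRecDepth 100000
set_option maxHeartbeats 0
set_option Elab.async false

namespace CfsgLib.KnownB.SuzMult.P5

open CfsgLib.Spor CfsgLib.Spor.SixSuz CfsgLib.KnownB.Mult

theorem rowsC0 : (piece cert.rows 1 0).all (cert.rowF sixCode 5) = true := by decide +kernel
theorem rowsC1 : (piece cert.rows 1 1).all (cert.rowF sixCode 5) = true := by decide +kernel
theorem rowsC2 : (piece cert.rows 1 2).all (cert.rowF sixCode 5) = true := by decide +kernel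

end CfsgLib.KnownB.SuzMult.P5
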