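import Cfsg.Agent.Lib.KnownB.SuzMult.P5Data
import Cfsg.Agent.Lib.KnownB.Mult.Chunks

/-! Checks of the generators of the certificate at `5`. -/

set_option autoImplicit false
set_option maxRecDepth 100000
set_option maxHeartbeats 0
set_option Elab.async false

namespace CfsgLib.KnownB.SuzMult.P5

open CfsgLib.Spor CfsgLib.Spor.SixSuz CfsgLib.KnownB.Mult

theorem genS0 : (piece cert.σ 7 0).all (sixCode.okc) = true := by decide +kernel
theorem genC0 : (piece cert.conjs 8 0).all (Cert.okCnjF sixCode) = true := by decide +kernel
theorem gen : cert.genOK sixCode = true :=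
  Cert.genOK_of _ _
    (all_of_pieces (sixCode.okc) 7 1 cert.σ (fun i hi => match i, hi with
    | 0, _ => genS0
    | n + 1, hi => absurd hi (by omega)) (by decide +kernel))
    (all_of_pieces (Cert.okCnjF sixCode) 8 1 cert.conjs (fun i hi => match i, hi with
    | 0, _ => genC0
    | n + 1, hi => absurd hi (by omega)) (by decide +kernel))
theorem pcs : cert.pcOK 5 = true := by decide +kernel
theorem levels_ok : Cert.levelsOK sixCode cert appC Nat.beq levels [] = true := by decide +kernel

end CfsgLib.KnownB.SuzMult.P5
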