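import Cfsg.Agent.Lib.KnownB.SuzMult.P5Data
import Cfsg.Agent.Lib.KnownB.Mult.Chunks

/-! Checks of the targets of the certificate at `5`. -/

set_option autoImplicit false
set_option maxRecDepth 100000
set_option maxHeartbeats 0
set_option Elab.async false

namespace CfsgLib.KnownB.SuzMult.P5

open CfsgLib.Spor CfsgLib.Spor.SixSuz CfsgLib.KnownB.Mult

theorem tgt0 : (piece (List.range cert.rules.length) 30 0).all (cert.tgtF 5) = true := by decide +kernel
theorem target : cert.targetOK 5 = true :=
  Cert.targetOK_of _ _
    (all_of_pieces (cert.tgtF 5) 30 1 (List.range cert.rules.length) (fun i hi => match i, hi with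
    | 0, _ => tgt0
    | n + 1, hi => absurd hi (by omega)) (by decide +kernel))

end CfsgLib.KnownB.SuzMult.P5
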