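import Cfsg.Agent.Lib.KnownB.SuzMult.P5Data
import Cfsg.Agent.Lib.KnownB.Mult.Chunks
import Cfsg.Agent.Lib.KnownB.SuzMult.P5Rel
import Cfsg.Agent.Lib.KnownB.SuzMult.P5Small
import Cfsg.Agent.Lib.KnownB.SuzMult.P5Target
import Cfsg.Agent.Lib.KnownB.SuzMult.P5Rows0

/-! The condition at `5`. -/

set_option autoImplicit false
set_option maxRecDepth 100000
set_option maxHeartbeats 0
set_option Elab.async false

namespace CfsgLib.KnownB.SuzMult.P5

open CfsgLib.Spor CfsgLib.Spor.SixSuz CfsgLib.KnownB.Mult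

theorem rows : cert.rowsOK sixCode 5 = true :=
  Cert.rowsOK_of _ _ _
    (all_of_pieces (cert.rowF sixCode 5) 1 3 cert.rows (fun i hi => match i, hi with
    | 0, _ => rowsC0
    | 1, _ => rowsC1
    | 2, _ => rowsC2
    | n + 3, hi => absurd hi (by omega)) (by decide +kernel))

theorem primeCond_cert [Finite sixSuz] (hN : Nat.card sixSuz = 5 ^ 2 * 107602919424) :
    haveI : Fact (Nat.Prime 5) := ⟨by norm_num⟩; PrimeCond sixSuz 5 :=
  haveI : Fact (Nat.Prime 5) := ⟨by norm_num⟩
  primeCond_of_levels cert ⟨gen, rel, pcs, rows, target⟩ levels levels_ok (by decide) hN (by norm_num)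

end CfsgLib.KnownB.SuzMult.P5
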