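import Cfsg.Agent.Lib.KnownB.SuzMult.P2
import Cfsg.Agent.Lib.KnownB.SuzMult.P3
import Cfsg.Agent.Lib.KnownB.SuzMult.P5
import Cfsg.Agent.Lib.Spor.SixSuz.Hom
import Cfsg.Agent.Lib.KnownB.Mult.Reduce

/-!
The centraliser in `Co0` of an element of order three without fixed vectors has trivial multiplier,
and the multiplier of the presented Suzuki group is cyclic of order six.
-/

set_option autoImplicit false
set_option maxRecDepth 100000

namespace CfsgLib.KnownB.SuzMult

open CfsgLib.Spor.SixSuz CfsgLib.KnownB.Mult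

theorem trivial_multiplier : Cfsg.HasCyclicSchurMultiplier sixSuz 1 := by
  refine hasTrivialMultiplier_of_primeCond fun p hp => ?_
  by_cases h2 : p = 2
  · subst h2
    exact P2.primeCond_cert (natCard_sixSuz.trans (by norm_num))
  by_cases h3 : p = 3
  · subst h3
    exact P3.primeCond_cert (natCard_sixSuz.trans (by norm_num))
  by_cases h5 : p = 5
  · subst h5
    exact P5.primeCond_cert (natCard_sixSuz.trans (by norm_num))
  refine primeCond_of_cyclic default (isCyclic_sylow (p := p) ?_ default)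
  intro hd
  rw [natCard_sixSuz, show (2690072985600 : ℕ) = 2 ^ 14 * 3 ^ 8 * 5 ^ 2 * (7 * 11 * 13) by norm_num] at hd
  have hc : ∀ q k : ℕ, q.Prime → p ≠ q → Nat.Coprime (p ^ 2) (q ^ k) := fun q k hq hne =>
    Nat.Coprime.pow 2 k ((Nat.coprime_primes hp.out hq).2 hne)
  have h7 : p ^ 2 ∣ 7 * 11 * 13 := (((hc 2 14 Nat.prime_two h2).mul_right
    (hc 3 8 Nat.prime_three h3)).mul_right (hc 5 2 Nat.prime_five h5)).dvd_of_dvd_mul_left hd
  have hle : p ^ 2 ≤ 1001 := Nat.le_of_dvd (by norm_num) h7
  have h31 : p ≤ 31 := by nlinarith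
  have := hp.out.two_le
  interval_cases p <;> norm_num at h7

theorem hasCyclicSchurMultiplier : Cfsg.HasCyclicSchurMultiplier Cfsg.Spor.Suz 6 :=
  hasCyclicSchurMultiplier_of_trivial trivial_multiplier

end CfsgLib.KnownB.SuzMult
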