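import Cfsg.Agent.Lib.KnownB.SuzMult.P2Data
import Cfsg.Agent.Lib.KnownB.Mult.Chunks

/-! Checks of rows of the certificate at `2`. -/

set_option autoImplicit false
set_option maxRecDepth 100000
set_option maxHeartbeats 0
set_option Elab.async false

namespace CfsgLib.KnownB.SuzMult.P2

open CfsgLib.Spor CfsgLib.Spor.SixSuz CfsgLib.KnownB.Mult

theorem rowsC40 : (piece cert.rows 1 40).all (cert.rowF sixCode 2) = true := by decide +kernel
theorem rowsC41 : (piece cert.rows 1 41).all (cert.rowF sixCode 2) = true := by decide +kernel
theorem rowsC42 : (piece cert.rows 1 42).all (cert.rowF sixCode 2) = true := by decide +kernel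
theorem rowsC43 : (piece cert.rows 1 43).all (cert.rowF sixCode 2) = true := by decide +kernel
theorem rowsC44 : (piece cert.rows 1 44).all (cert.rowF sixCode 2) = true := by decide +kernel
theorem rowsC45 : (piece cert.rows 1 45).all (cert.rowF sixCode 2) = true := by decide +kernel
theorem rowsC46 : (piece cert.rows 1 46).all (cert.rowF sixCode 2) = true := by decide +kernel
theorem rowsC47 : (piece cert.rows 1 47).all (cert.rowF sixCode 2) = true := by decide +kernel
theorem rowsC48 : (piece cert.rows 1 48).all (cert.rowF sixCode 2) = true := by decide +kernel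
theorem rowsC49 : (piece cert.rows 1 49).all (cert.rowF sixCode 2) = true := by decide +kernel
theorem rowsC50 : (piece cert.rows 1 50).all (cert.rowF sixCode 2) = true := by decide +kernel
theorem rowsC51 : (piece cert.rows 1 51).all (cert.rowF sixCode 2) = true := by decide +kernel
theorem rowsC52 : (piece cert.rows 1 52).all (cert.rowF sixCode 2) = true := by decide +kernel
theorem rowsC53 : (piece cert.rows 1 53).all (cert.rowF sixCode 2) = true := by decide +kernel
theorem rowsC54 : (piece cert.rows 1 54).all (cert.rowF sixCode 2) = true := by decide +kernel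
theorem rowsC55 : (piece cert.rows 1 55).all (cert.rowF sixCode 2) = true := by decide +kernel
theorem rowsC56 : (piece cert.rows 1 56).all (cert.rowF sixCode 2) = true := by decide +kernel
theorem rowsC57 : (piece cert.rows 1 57).all (cert.rowF sixCode 2) = true := by decide +kernel
theorem rowsC58 : (piece cert.rows 1 58).all (cert.rowF sixCode 2) = true := by decide +kernel
theorem rowsC59 : (piece cert.rows 1 59).all (cert.rowF sixCode 2) = true := by decide +kernel

end CfsgLib.KnownB.SuzMult.P2
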