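import Cfsg.Agent.Lib.KnownB.SuzMult.P2Data
import Cfsg.Agent.Lib.KnownB.Mult.Chunks

/-! Checks of rows of the certificate at `2`. -/

set_option autoImplicit false
set_option maxRecDepth 100000
set_option maxHeartbeats 0
set_option Elab.async false

namespace CfsgLib.KnownB.SuzMult.P2

open CfsgLib.Spor CfsgLib.Spor.SixSuz CfsgLib.KnownB.Mult

theorem rowsC60 : (piece cert.rows 1 60).all (cert.rowF sixCode 2) = true := by decide +kernel
theorem rowsC61 : (piece cert.rows 1 61).all (cert.rowF sixCode 2) = true := by decide +kernel
theorem rowsC62 : (piece cert.rows 1 62).all (cert.rowF sixCode 2) = true := by decide +kernel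
theorem rowsC63 : (piece cert.rows 1 63).all (cert.rowF sixCode 2) = true := by decide +kernel
theorem rowsC64 : (piece cert.rows 1 64).all (cert.rowF sixCode 2) = true := by decide +kernel
theorem rowsC65 : (piece cert.rows 1 65).all (cert.rowF sixCode 2) = true := by decide +kernel
theorem rowsC66 : (piece cert.rows 1 66).all (cert.rowF sixCode 2) = true := by decide +kernel
theorem rowsC67 : (piece cert.rows 1 67).all (cert.rowF sixCode 2) = true := by decide +kernel
theorem rowsC68 : (piece cert.rows 1 68).all (cert.rowF sixCode 2) = true := by decide +kernel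
theorem rowsC69 : (piece cert.rows 1 69).all (cert.rowF sixCode 2) = true := by decide +kernel
theorem rowsC70 : (piece cert.rows 1 70).all (cert.rowF sixCode 2) = true := by decide +kernel
theorem rowsC71 : (piece cert.rows 1 71).all (cert.rowF sixCode 2) = true := by decide +kernel
theorem rowsC72 : (piece cert.rows 1 72).all (cert.rowF sixCode 2) = true := by decide +kernel
theorem rowsC73 : (piece cert.rows 1 73).all (cert.rowF sixCode 2) = true := by decide +kernel
theorem rowsC74 : (piece cert.rows 1 74).all (cert.rowF sixCode 2) = true := by decide +kernel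
theorem rowsC75 : (piece cert.rows 1 75).all (cert.rowF sixCode 2) = true := by decide +kernel
theorem rowsC76 : (piece cert.rows 1 76).all (cert.rowF sixCode 2) = true := by decide +kernel
theorem rowsC77 : (piece cert.rows 1 77).all (cert.rowF sixCode 2) = true := by decide +kernel
theorem rowsC78 : (piece cert.rows 1 78).all (cert.rowF sixCode 2) = true := by decide +kernel
theorem rowsC79 : (piece cert.rows 1 79).all (cert.rowF sixCode 2) = true := by decide +kernel

end CfsgLib.KnownB.SuzMult.P2
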