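import Cfsg.Agent.Lib.KnownB.SuzMult.P2Data
import Cfsg.Agent.Lib.KnownB.Mult.Chunks

/-! Checks of rows of the certificate at `2`. -/

set_option autoImplicit false
set_option maxRecDepth 100000
set_option maxHeartbeats 0
set_option Elab.async false

namespace CfsgLib.KnownB.SuzMult.P2

open CfsgLib.Spor CfsgLib.Spor.SixSuz CfsgLib.KnownB.Mult

theorem rowsC80 : (piece cert.rows 1 80).all (cert.rowF sixCode 2) = true := by decide +kernel
theorem rowsC81 : (piece cert.rows 1 81).all (cert.rowF sixCode 2) = true := by decide +kernel
theorem rowsC82 : (piece cert.rows 1 82).all (cert.rowF sixCode 2) = true := by decide +kernel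
theorem rowsC83 : (piece cert.rows 1 83).all (cert.rowF sixCode 2) = true := by decide +kernel
theorem rowsC84 : (piece cert.rows 1 84).all (cert.rowF sixCode 2) = true := by decide +kernel
theorem rowsC85 : (piece cert.rows 1 85).all (cert.rowF sixCode 2) = true := by decide +kernel
theorem rowsC86 : (piece cert.rows 1 86).all (cert.rowF sixCode 2) = true := by decide +kernel
theorem rowsC87 : (piece cert.rows 1 87).all (cert.rowF sixCode 2) = true := by decide +kernel
theorem rowsC88 : (piece cert.rows 1 88).all (cert.rowF sixCode 2) = true := by decide +kernel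
theorem rowsC89 : (piece cert.rows 1 89).all (cert.rowF sixCode 2) = true := by decide +kernel
theorem rowsC90 : (piece cert.rows 1 90).all (cert.rowF sixCode 2) = true := by decide +kernel
theorem rowsC91 : (piece cert.rows 1 91).all (cert.rowF sixCode 2) = true := by decide +kernel
theorem rowsC92 : (piece cert.rows 1 92).all (cert.rowF sixCode 2) = true := by decide +kernel
theorem rowsC93 : (piece cert.rows 1 93).all (cert.rowF sixCode 2) = true := by decide +kernel
theorem rowsC94 : (piece cert.rows 1 94).all (cert.rowF sixCode 2) = true := by decide +kernel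
theorem rowsC95 : (piece cert.rows 1 95).all (cert.rowF sixCode 2) = true := by decide +kernel
theorem rowsC96 : (piece cert.rows 1 96).all (cert.rowF sixCode 2) = true := by decide +kernel
theorem rowsC97 : (piece cert.rows 1 97).all (cert.rowF sixCode 2) = true := by decide +kernel
theorem rowsC98 : (piece cert.rows 1 98).all (cert.rowF sixCode 2) = true := by decide +kernel
theorem rowsC99 : (piece cert.rows 1 99).all (cert.rowF sixCode 2) = true := by decide +kernel

end CfsgLib.KnownB.SuzMult.P2
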