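import Cfsg.Agent.Lib.KnownB.SuzMult.P2Data
import Cfsg.Agent.Lib.KnownB.Mult.Chunks

/-! Checks of rows of the certificate at `2`. -/

set_option autoImplicit false
set_option maxRecDepth 100000
set_option maxHeartbeats 0
set_option Elab.async false

namespace CfsgLib.KnownB.SuzMult.P2

open CfsgLib.Spor CfsgLib.Spor.SixSuz CfsgLib.KnownB.Mult

theorem rowsC100 : (piece cert.rows 1 100).all (cert.rowF sixCode 2) = true := by decide +kernel
theorem rowsC101 : (piece cert.rows 1 101).all (cert.rowF sixCode 2) = true := by decide +kernel
theorem rowsC102 : (piece cert.rows 1 102).all (cert.rowF sixCode 2) = true := by decide +kernel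
theorem rowsC103 : (piece cert.rows 1 103).all (cert.rowF sixCode 2) = true := by decide +kernel
theorem rowsC104 : (piece cert.rows 1 104).all (cert.rowF sixCode 2) = true := by decide +kernel
theorem rowsC105 : (piece cert.rows 1 105).all (cert.rowF sixCode 2) = true := by decide +kernel
theorem rowsC106 : (piece cert.rows 1 106).all (cert.rowF sixCode 2) = true := by decide +kernel
theorem rowsC107 : (piece cert.rows 1 107).all (cert.rowF sixCode 2) = true := by decide +kernel
theorem rowsC108 : (piece cert.rows 1 108).all (cert.rowF sixCode 2) = true := by decide +kernel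
theorem rowsC109 : (piece cert.rows 1 109).all (cert.rowF sixCode 2) = true := by decide +kernel
theorem rowsC110 : (piece cert.rows 1 110).all (cert.rowF sixCode 2) = true := by decide +kernel

end CfsgLib.KnownB.SuzMult.P2
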